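import Mathlib

set_option autoImplicit false
set_option linter.all false

namespace Cfsg.Agent.H36.SLT

open Matrix

variable {F : Type*} [Field F] {ι : Type*} [Fintype ι] [DecidableEq ι]

/-- The transvection `1 + v φᵀ` (with `φ ⬝ v = 0`) as an element of `SL`. -/
def T (v φ : ι → F) (h : φ ⬝ᵥ v = 0) : Matrix.SpecialLinearGroup ι F :=
  ⟨1 + vecMulVec v φ, by
    rw [vecMulVec_eq (ι := Unit), det_one_add_replicateCol_mul_replicateRow, h, add_zero]⟩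

theorem coe_T (v φ : ι → F) (h : φ ⬝ᵥ v = 0) :
    ((T v φ h : Matrix.SpecialLinearGroup ι F) : Matrix ι ι F) = 1 + vecMulVec v φ := rfl

theorem ext' {A B : Matrix.SpecialLinearGroup ι F} (h : (A : Matrix ι ι F) = B) : A = B := Subtype.ext h

theorem T_mul_same_left (v φ φ' : ι → F) (h : φ ⬝ᵥ v = 0) (h' : φ' ⬝ᵥ v = 0) :
    T v φ h * T v φ' h' = T v (φ + φ') (by rw [add_dotProduct, h, h', add_zero]) := by
  apply ext'
  rw [Matrix.SpecialLinearGroup.coe_mul, coe_T, coe_T, coe_T, add_mul, mul_add, mul_add, vecMulVec_mul_vecMulVec,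
    h, vecMulVec_add]
  simp
  abel

theorem T_mul_same_right (v v' φ : ι → F) (h : φ ⬝ᵥ v = 0) (h' : φ ⬝ᵥ v' = 0) :
    T v φ h * T v' φ h' = T (v + v') φ (by rw [dotProduct_add, h, h', add_zero]) := by
  apply ext'
  rw [Matrix.SpecialLinearGroup.coe_mul, coe_T, coe_T, coe_T, add_mul, mul_add, mul_add, vecMulVec_mul_vecMulVec,
    h', add_vecMulVec]
  simp
  abel

theorem T_zero_left (φ : ι → F) (h : φ ⬝ᵥ (0 : ι → F) = 0) : T (0 : ι → F) φ h = 1 := by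
  apply ext'
  rw [coe_T]; simp

theorem T_zero_right (v : ι → F) (h : (0 : ι → F) ⬝ᵥ v = 0) : T v (0 : ι → F) h = 1 := by
  apply ext'
  rw [coe_T]; simp

theorem T_congr {v v' φ φ' : ι → F} (hv : v = v') (hφ : φ = φ') (h : φ ⬝ᵥ v = 0) :
    T v φ h = T v' φ' (by rw [← hv, ← hφ]; exact h) := by
  subst hv; subst hφ; rfl

theorem T_inv (v φ : ι → F) (h : φ ⬝ᵥ v = 0) :
    (T v φ h)⁻¹ = T v (-φ) (by rw [neg_dotProduct, h, neg_zero]) := by
  rw [inv_eq_iff_mul_eq_one, T_mul_same_left]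
  rw [T_congr rfl (add_neg_cancel φ), T_zero_right]

theorem T_inv' (v φ : ι → F) (h : φ ⬝ᵥ v = 0) :
    (T v φ h)⁻¹ = T (-v) φ (by rw [dotProduct_neg, h, neg_zero]) := by
  rw [inv_eq_iff_mul_eq_one, T_mul_same_right]
  rw [T_congr (add_neg_cancel v) rfl, T_zero_left]

theorem T_smul (c : F) (v φ : ι → F) (h : φ ⬝ᵥ (c • v) = 0) (h' : (c • φ) ⬝ᵥ v = 0) :
    T (c • v) φ h = T v (c • φ) h' := by
  apply ext'
  rw [coe_T, coe_T, smul_vecMulVec, vecMulVec_smul]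

theorem T_mulVec (v φ x : ι → F) (h : φ ⬝ᵥ v = 0) :
    ((T v φ h : Matrix.SpecialLinearGroup ι F) : Matrix ι ι F) *ᵥ x = x + (φ ⬝ᵥ x) • v := by
  rw [coe_T, add_mulVec, one_mulVec, vecMulVec_mulVec]
  simp

theorem vecMul_T (v φ x : ι → F) (h : φ ⬝ᵥ v = 0) :
    x ᵥ* ((T v φ h : Matrix.SpecialLinearGroup ι F) : Matrix ι ι F) = x + (x ⬝ᵥ v) • φ := by
  rw [coe_T, vecMul_add, vecMul_one, vecMul_vecMulVec]

theorem T_eq_one_iff (v φ : ι → F) (h : φ ⬝ᵥ v = 0) : T v φ h = 1 ↔ v = 0 ∨ φ = 0 := by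
  constructor
  · intro he
    have : (1 : Matrix ι ι F) + vecMulVec v φ = 1 := by rw [← coe_T v φ h, he]; rfl
    have h2 : vecMulVec v φ = 0 := by simpa using this
    exact vecMulVec_eq_zero.mp h2
  · rintro (rfl | rfl)
    · exact T_zero_left _ _
    · exact T_zero_right _ _

theorem dot_conj (g : Matrix.SpecialLinearGroup ι F) (v φ : ι → F) :
    (φ ᵥ* ((g⁻¹ : Matrix.SpecialLinearGroup ι F) : Matrix ι ι F)) ⬝ᵥ ((g : Matrix ι ι F) *ᵥ v) = φ ⬝ᵥ v := by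
  rw [← dotProduct_mulVec, mulVec_mulVec, ← Matrix.SpecialLinearGroup.coe_mul, inv_mul_cancel,
    Matrix.SpecialLinearGroup.coe_one, one_mulVec]

/-- Conjugation of a transvection. -/
theorem conj_T (g : Matrix.SpecialLinearGroup ι F) (v φ : ι → F) (h : φ ⬝ᵥ v = 0) :
    g * T v φ h * g⁻¹ = T ((g : Matrix ι ι F) *ᵥ v) (φ ᵥ* ((g⁻¹ : Matrix.SpecialLinearGroup ι F) : Matrix ι ι F))
      (by rw [dot_conj, h]) := by
  apply ext'
  rw [Matrix.SpecialLinearGroup.coe_mul, Matrix.SpecialLinearGroup.coe_mul, coe_T, coe_T, mul_add, add_mul, mul_one,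
    ← Matrix.SpecialLinearGroup.coe_mul, mul_inv_cancel, Matrix.SpecialLinearGroup.coe_one, mul_vecMulVec, vecMulVec_mul]

/-- for linearly independent functionals there is a vector with prescribed values -/
theorem exists_dot_eq (φ ψ : ι → F) (hφ : φ ≠ 0) (hind : ∀ c : F, ψ ≠ c • φ) (a b : F) :
    ∃ w : ι → F, φ ⬝ᵥ w = a ∧ ψ ⬝ᵥ w = b := by
  -- there is a w₀ with φ w₀ = 0, ψ w₀ ≠ 0
  classical
  obtain ⟨i, hi⟩ : ∃ i, φ i ≠ 0 := by
    by_contra hcon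
    push Not at hcon
    exact hφ (funext hcon)
  obtain ⟨j, hj⟩ : ∃ j, ψ j ≠ (ψ i * (φ i)⁻¹) * φ j := by
    by_contra hcon
    push Not at hcon
    exact hind (ψ i * (φ i)⁻¹) (funext fun j => by simpa using hcon j)
  obtain ⟨w0, hw0⟩ : ∃ w : ι → F, w = Pi.single j 1 - (φ j * (φ i)⁻¹) • Pi.single i 1 := ⟨_, rfl⟩
  have e1 : φ ⬝ᵥ w0 = 0 := by
    rw [hw0, dotProduct_sub, dotProduct_smul, dotProduct_single, dotProduct_single, smul_eq_mul]
    field_simp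
    ring
  have e2 : ψ ⬝ᵥ w0 ≠ 0 := by
    rw [hw0, dotProduct_sub, dotProduct_smul, dotProduct_single, dotProduct_single, smul_eq_mul]
    intro h
    apply hj
    field_simp
    field_simp at h
    linear_combination h
  obtain ⟨w1, hw1⟩ : ∃ w : ι → F, w = (φ i)⁻¹ • Pi.single i 1 := ⟨_, rfl⟩
  have e3 : φ ⬝ᵥ w1 = 1 := by
    rw [hw1, dotProduct_smul, dotProduct_single, smul_eq_mul]
    field_simp
  refine ⟨a • w1 + ((b - a * (ψ ⬝ᵥ w1)) * (ψ ⬝ᵥ w0)⁻¹) • w0, ?_, ?_⟩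
  · rw [dotProduct_add, dotProduct_smul, dotProduct_smul, e1, e3]; simp
  · rw [dotProduct_add, dotProduct_smul, dotProduct_smul, smul_eq_mul, smul_eq_mul, mul_assoc,
      inv_mul_cancel₀ e2]
    ring

end Cfsg.Agent.H36.SLT
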