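import Mathlib
import Cfsg.Prelude.Def_PLocal
import Cfsg.Prelude.Def_Local
import Cfsg.Agent.H36.QuadSL2
import Cfsg.Agent.H36.QuadOn
import Cfsg.Agent.Solv.Core
import Cfsg.Agent.H34.Thompson
set_option autoImplicit false
set_option linter.all false

/-!
Groups without section `SL(2, p)` act `p`-stably on everything.
-/

namespace Cfsg.Agent.H36.QuadStab
open Subgroup Cfsg Cfsg.Agent.H36.QuadSL2
open scoped commutatorElement

/-- The linear representation attached to an action by automorphisms on an abelian group. -/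
def linRep {X W : Type*} [Group X] [CommGroup W] (θ : X →* MulAut W) :
    X →* (Additive W →ₗ[ℤ] Additive W) where
  toFun g := (MonoidHom.toAdditive (θ g).toMonoidHom).toIntLinearMap
  map_one' := by
    apply LinearMap.ext
    intro v
    show Additive.ofMul (θ 1 v.toMul) = v
    rw [map_one]; rfl
  map_mul' g h := by
    apply LinearMap.ext
    intro v
    show Additive.ofMul (θ (g * h) v.toMul) = Additive.ofMul (θ g (θ h v.toMul))
    rw [map_mul]; rfl

theorem key_mulAut {X : Type*} [Group X] [Finite X] {p : ℕ} [hp : Fact p.Prime] (hp2 : p ≠ 2)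
    {W : Type*} [CommGroup W] [Finite W] (hW : ∀ w : W, w ^ p = 1)
    (θ : X →* MulAut W) (hθ : ∀ g, θ g = 1 → g = 1) {x : X}
    (hx : ∀ w, θ x (θ x w * w⁻¹) = θ x w * w⁻¹) (hxO : x ∉ pCore p X) : HasSL2Section p X := by
  refine key hp2 (V := Additive W) (fun v => hW v.toMul) (linRep θ) ?_ (x := x) ?_ hxO
  · intro g hg
    apply hθ
    apply MulEquiv.ext
    intro w
    have := congrArg (fun f => (f (Additive.ofMul w)).toMul) hg
    exact this
  · intro v
    have h1 := hx v.toMul
    have h2 : linRep θ x v - v = Additive.ofMul (θ x v.toMul * (v.toMul)⁻¹) := by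
      rw [sub_eq_add_neg]; rfl
    rw [h2]
    exact congrArg Additive.ofMul h1

/-- Version with a kernel. -/
theorem key_ker {G : Type*} [Group G] [Finite G] {p : ℕ} [hp : Fact p.Prime] (hp2 : p ≠ 2)
    {W : Type*} [CommGroup W] [Finite W] (hW : ∀ w : W, w ^ p = 1)
    (θ : G →* MulAut W) (K : Subgroup G) [K.Normal] (hK : θ.ker = K) {x : G}
    (hx : ∀ w, θ x (θ x w * w⁻¹) = θ x w * w⁻¹)
    (hxO : (QuotientGroup.mk x : G ⧸ K) ∉ pCore p (G ⧸ K)) : HasSL2Section p G := by
  subst hK
  apply HasSL2Section.of_quotient θ.ker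
  refine key_mulAut hp2 hW (QuotientGroup.kerLift θ) ?_ (x := (QuotientGroup.mk x : G ⧸ θ.ker)) ?_ hxO
  · intro g hg
    exact QuotientGroup.kerLift_injective θ (by rw [hg, map_one])
  · intro w
    exact hx w

/-- Groups without section `SL(2, p)`, `p` odd, act `p`-stably on their normal elementary
abelian `p`-subgroups. -/
theorem isPStableOn {G : Type*} [Group G] [Finite G] {p : ℕ} [hp : Fact p.Prime] (hp2 : p ≠ 2)
    (hG : ¬ HasSL2Section p G) (V : Subgroup G) [hVn : V.Normal] (hV : IsElementaryAbelian p V) :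
    IsPStableOn p V := by
  intro a ha
  by_contra hcon
  apply hG
  have hV' := (H34.isElementaryAbelian_iff p V).1 hV
  letI : CommGroup ↥V := { (inferInstance : Group ↥V) with
    mul_comm := fun x y => Subtype.ext (hV'.1 x x.2 y y.2) }
  refine key_ker hp2 (W := ↥V) (fun w => Subtype.ext (hV'.2 w w.2)) (MulAut.conjNormal (H := V))
    (centralizer (V : Set G)) ?_ (x := a) ?_ hcon
  · ext g
    rw [MonoidHom.mem_ker, mem_centralizer_iff]
    constructor
    · intro h v hv
      have h1 := congrArg (fun f : MulAut ↥V => ((f ⟨v, hv⟩ : ↥V) : G)) h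
      have h2 : g * v * g⁻¹ = v := by simpa using h1
      rw [mul_inv_eq_iff_eq_mul] at h2
      exact h2.symm
    · intro h
      apply MulEquiv.ext
      rintro ⟨v, hv⟩
      apply Subtype.ext
      show g * v * g⁻¹ = v
      rw [← h v hv]; group
  · rintro ⟨v, hv⟩
    apply Subtype.ext
    have h1 : Commute a ⁅a, v⁆ := (show QuadOn.Quad V a from ha).commute hv
    show a * (a * v * a⁻¹ * v⁻¹) * a⁻¹ = a * v * a⁻¹ * v⁻¹
    rw [commutatorElement_def] at h1
    rw [h1.eq]; group

end Cfsg.Agent.H36.QuadStab
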