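import Mathlib
import Cfsg.Prelude.Def_PLocal
import Cfsg.Prelude.Def_Local
import Cfsg.Agent.H36.QuadSL2
import Cfsg.Agent.H36.QuadStab
import Cfsg.Agent.H76.PSolvable
import Cfsg.Agent.H63.PLen
import Cfsg.Agent.Solv.Core
import Cfsg.Agent.Solv.Frattini
set_option autoImplicit false
set_option linter.all false

/-!
Groups without section `SL(2, p)`: `p`-solvable groups for `p ≥ 5`, groups with abelian Sylow
`2`-subgroups; and such groups are `p`-stable in the action sense.
-/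

namespace Cfsg.Agent.H36.NoSL2
open Cfsg Cfsg.Agent.H36.QuadSL2

section Matrices

variable {p : ℕ} [hp : Fact p.Prime]

theorem simple_of_isPSolvable {Q : Type*} [Group Q] [Finite Q] [IsSimpleGroup Q]
    (h : IsPSolvable p Q) : (∃ m, Nat.card Q = p ^ m) ∨ (Nat.card Q).Coprime p := by
  obtain ⟨n, H, h0, hlast, hmono, hnorm, hfac⟩ := h
  have h1 : ∃ i : Fin n, H i.castSucc = ⊥ ∧ H i.succ ≠ ⊥ := by
    by_contra hcon
    push Not at hcon
    have : ∀ i : Fin (n + 1), H i = ⊥ := by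
      intro i
      induction i using Fin.induction with
      | zero => exact h0
      | succ i ih => exact hcon i ih
    have h2 := this (Fin.last n)
    rw [hlast] at h2
    exact absurd h2 top_ne_bot
  obtain ⟨i, hi, hi'⟩ := h1
  have h2 : H i.succ = ⊤ := ((hnorm i.succ).eq_bot_or_eq_top).resolve_left hi'
  have h3 := hfac i
  rw [hi, h2, Subgroup.relIndex_bot_left, Subgroup.card_top] at h3
  exact h3

theorem not_isPSolvable_sl2 (hp5 : 5 ≤ p) :
    ¬ IsPSolvable p (Matrix.SpecialLinearGroup (Fin 2) (ZMod p)) := by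
  intro h
  have hs : IsSimpleGroup (Matrix.ProjectiveSpecialLinearGroup (Fin 2) (ZMod p)) :=
    Matrix.ProjectiveSpecialLinearGroup.rank_two_simple (by
      rw [Nat.card_zmod]; omega)
  have h1 : IsPSolvable p (Matrix.ProjectiveSpecialLinearGroup (Fin 2) (ZMod p)) :=
    H76.isPSolvable_quotient _ h
  have hfin : Finite (Matrix.ProjectiveSpecialLinearGroup (Fin 2) (ZMod p)) :=
    Finite.of_surjective _ (QuotientGroup.mk'_surjective (Subgroup.center (Matrix.SpecialLinearGroup (Fin 2) (ZMod p))))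
  obtain ⟨t, htc⟩ : ∃ t : Matrix.SpecialLinearGroup (Fin 2) (ZMod p),
      (t : Matrix (Fin 2) (Fin 2) (ZMod p)) = !![1, 1; 0, 1] :=
    ⟨⟨!![1, 1; 0, 1], by simp [Matrix.det_fin_two]⟩, rfl⟩
  obtain ⟨w, hwc⟩ : ∃ t : Matrix.SpecialLinearGroup (Fin 2) (ZMod p),
      (t : Matrix (Fin 2) (Fin 2) (ZMod p)) = !![0, 1; -1, 0] :=
    ⟨⟨!![0, 1; -1, 0], by simp [Matrix.det_fin_two]⟩, rfl⟩
  have hw2 : w ^ 2 ∈ Subgroup.center (Matrix.SpecialLinearGroup (Fin 2) (ZMod p)) := by
    rw [Matrix.SpecialLinearGroup.mem_center_iff]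
    refine ⟨-1, by simp, ?_⟩
    rw [Matrix.SpecialLinearGroup.coe_pow, hwc, pow_two]
    ext i j
    fin_cases i <;> fin_cases j <;> simp [Matrix.mul_apply]
  have hw : w ∉ Subgroup.center (Matrix.SpecialLinearGroup (Fin 2) (ZMod p)) := by
    rw [Matrix.SpecialLinearGroup.mem_center_iff]
    rintro ⟨r, -, hr⟩
    have := congrFun (congrFun hr 0) 1
    simp [hwc] at this
  have ht : t ∉ Subgroup.center (Matrix.SpecialLinearGroup (Fin 2) (ZMod p)) := by
    rw [Matrix.SpecialLinearGroup.mem_center_iff]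
    rintro ⟨r, -, hr⟩
    have := congrFun (congrFun hr 0) 1
    simp [htc] at this
  have htp : t ^ p = 1 := by
    have h2 : ∀ n : ℕ, ((t ^ n : Matrix.SpecialLinearGroup (Fin 2) (ZMod p)) : Matrix (Fin 2) (Fin 2) (ZMod p)) =
        !![1, (n : ZMod p); 0, 1] := by
      intro n
      induction n with
      | zero =>
        ext i j
        fin_cases i <;> fin_cases j <;> simp
      | succ n ih =>
        rw [pow_succ, Matrix.SpecialLinearGroup.coe_mul, ih, htc]
        ext i j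
        fin_cases i <;> fin_cases j <;> simp [Matrix.mul_apply, add_comm]
    apply Subtype.ext
    rw [h2 p]
    ext i j
    fin_cases i <;> fin_cases j <;> simp
  have hordt : orderOf (QuotientGroup.mk' (Subgroup.center (Matrix.SpecialLinearGroup (Fin 2) (ZMod p))) t) = p := by
    apply orderOf_eq_prime
    · rw [← map_pow, htp, map_one]
    · intro hc
      exact ht ((QuotientGroup.eq_one_iff t).1 hc)
  have hordw : orderOf (QuotientGroup.mk' (Subgroup.center (Matrix.SpecialLinearGroup (Fin 2) (ZMod p))) w) = 2 := by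
    apply orderOf_eq_prime
    · rw [← map_pow]
      exact (QuotientGroup.eq_one_iff _).2 hw2
    · intro hc
      exact hw ((QuotientGroup.eq_one_iff w).1 hc)
  have hdt : p ∣ Nat.card (Matrix.ProjectiveSpecialLinearGroup (Fin 2) (ZMod p)) := by
    have := orderOf_dvd_natCard (G := Matrix.ProjectiveSpecialLinearGroup (Fin 2) (ZMod p))
      (QuotientGroup.mk' (Subgroup.center (Matrix.SpecialLinearGroup (Fin 2) (ZMod p))) t)
    rwa [hordt] at this
  have hdw : 2 ∣ Nat.card (Matrix.ProjectiveSpecialLinearGroup (Fin 2) (ZMod p)) := by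
    have := orderOf_dvd_natCard (G := Matrix.ProjectiveSpecialLinearGroup (Fin 2) (ZMod p))
      (QuotientGroup.mk' (Subgroup.center (Matrix.SpecialLinearGroup (Fin 2) (ZMod p))) w)
    rwa [hordw] at this
  rcases simple_of_isPSolvable h1 with ⟨m, hm⟩ | hc
  · rw [hm] at hdw
    have := (Nat.prime_dvd_prime_iff_eq Nat.prime_two hp.out).1 (Nat.prime_two.dvd_of_dvd_pow hdw)
    omega
  · exact hp.out.one_lt.ne' (Nat.eq_one_of_dvd_coprimes hc hdt dvd_rfl)

/-- `p`-solvable groups, `p ≥ 5`, have no section `SL(2, p)`. -/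
theorem not_hasSL2Section_of_isPSolvable (hp5 : 5 ≤ p) {G : Type*} [Group G] [Finite G]
    (h : IsPSolvable p G) : ¬ HasSL2Section p G := by
  rintro ⟨K, f, hf⟩
  exact not_isPSolvable_sl2 hp5 (H76.isPSolvable_of_surjective f hf (H76.isPSolvable_subgroup K h))

/-- Noncommuting `2`-elements of `SL(2, p)` generating a `2`-group. -/
theorem exists_quaternion (hp2 : p ≠ 2) : ∃ i j : Matrix.SpecialLinearGroup (Fin 2) (ZMod p),
    IsPGroup 2 ↥(Subgroup.zpowers j ⊔ Subgroup.zpowers i) ∧ i * j ≠ j * i := by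
  have h20 : (2 : ZMod p) ≠ 0 := by
    intro h
    have : ((2 : ℕ) : ZMod p) = 0 := by exact_mod_cast h
    rw [ZMod.natCast_eq_zero_iff] at this
    exact hp2 ((Nat.prime_dvd_prime_iff_eq hp.out Nat.prime_two).1 this)
  obtain ⟨x, y, hxy⟩ := ZMod.sq_add_sq p (-1 : ZMod p)
  obtain ⟨i, hic⟩ : ∃ t : Matrix.SpecialLinearGroup (Fin 2) (ZMod p),
      (t : Matrix (Fin 2) (Fin 2) (ZMod p)) = !![0, 1; -1, 0] :=
    ⟨⟨!![0, 1; -1, 0], by simp [Matrix.det_fin_two]⟩, rfl⟩
  obtain ⟨j, hjc⟩ : ∃ t : Matrix.SpecialLinearGroup (Fin 2) (ZMod p),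
      (t : Matrix (Fin 2) (Fin 2) (ZMod p)) = !![x, y; y, -x] :=
    ⟨⟨!![x, y; y, -x], by
      rw [Matrix.det_fin_two]
      simp
      linear_combination -hxy⟩, rfl⟩
  have hi4 : i ^ 4 = 1 := by
    apply Subtype.ext
    have h1 : ((i ^ 2 : Matrix.SpecialLinearGroup (Fin 2) (ZMod p)) : Matrix (Fin 2) (Fin 2) (ZMod p)) = -1 := by
      rw [Matrix.SpecialLinearGroup.coe_pow, hic, pow_two]
      ext a b
      fin_cases a <;> fin_cases b <;> simp [Matrix.mul_apply]
    have h2 : (i ^ 4 : Matrix.SpecialLinearGroup (Fin 2) (ZMod p)) = i ^ 2 * i ^ 2 := by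
      rw [← pow_add]
    rw [h2, Matrix.SpecialLinearGroup.coe_mul, h1]
    simp
  have hj4 : j ^ 4 = 1 := by
    apply Subtype.ext
    have h1 : ((j ^ 2 : Matrix.SpecialLinearGroup (Fin 2) (ZMod p)) : Matrix (Fin 2) (Fin 2) (ZMod p)) = -1 := by
      rw [Matrix.SpecialLinearGroup.coe_pow, hjc, pow_two]
      ext a b
      fin_cases a <;> fin_cases b <;> simp [Matrix.mul_apply]
      · linear_combination hxy
      · ring
      · ring
      · linear_combination hxy
    have h2 : (j ^ 4 : Matrix.SpecialLinearGroup (Fin 2) (ZMod p)) = j ^ 2 * j ^ 2 := by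
      rw [← pow_add]
    rw [h2, Matrix.SpecialLinearGroup.coe_mul, h1]
    simp
  have hji : j * i = i⁻¹ * j := by
    apply Subtype.ext
    rw [Matrix.SpecialLinearGroup.coe_mul, Matrix.SpecialLinearGroup.coe_mul,
      Matrix.SpecialLinearGroup.coe_inv, hic, hjc, Matrix.adjugate_fin_two]
    ext a b
    fin_cases a <;> fin_cases b <;> simp [Matrix.mul_apply]
  have hpg : ∀ z : Matrix.SpecialLinearGroup (Fin 2) (ZMod p), z ^ 4 = 1 →
      IsPGroup 2 ↥(Subgroup.zpowers z) := by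
    intro z hz
    rintro ⟨_, k, rfl⟩
    refine ⟨2, ?_⟩
    apply Subtype.ext
    show (z ^ k) ^ 2 ^ 2 = 1
    have : (2 : ℕ) ^ 2 = 4 := by norm_num
    rw [this, ← zpow_natCast, ← zpow_mul, mul_comm, zpow_mul, zpow_natCast, hz, one_zpow]
  refine ⟨i, j, ?_, ?_⟩
  · apply IsPGroup.to_sup_of_normal_right' (hpg j hj4) (hpg i hi4)
    rw [Subgroup.zpowers_le]
    have h1 : (Subgroup.zpowers i).map (MulAut.conj j).toMonoidHom = Subgroup.zpowers i := by
      rw [MonoidHom.map_zpowers]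
      have : (MulAut.conj j).toMonoidHom i = i⁻¹ := by
        show j * i * j⁻¹ = i⁻¹
        rw [hji]; group
      rw [this, Subgroup.zpowers_inv]
    exact Subgroup.mem_normalizer_iff_map_conj_eq.2 h1
  · intro hij
    rw [hji] at hij
    have h0 := congrArg (fun A : Matrix.SpecialLinearGroup (Fin 2) (ZMod p) => (A : Matrix (Fin 2) (Fin 2) (ZMod p))) hij
    simp only [Matrix.SpecialLinearGroup.coe_mul, Matrix.SpecialLinearGroup.coe_inv, hic, hjc,
      Matrix.adjugate_fin_two] at h0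
    have h1 := congrFun (congrFun h0 0) 0
    have h2 := congrFun (congrFun h0 0) 1
    simp [Matrix.mul_apply] at h1 h2
    have hy : y = 0 := by
      have : (2 : ZMod p) * y = 0 := by linear_combination h1
      exact (mul_eq_zero.1 this).resolve_left h20
    have hx : x = 0 := by
      have : (2 : ZMod p) * x = 0 := by linear_combination -h2
      exact (mul_eq_zero.1 this).resolve_left h20
    rw [hx, hy] at hxy
    norm_num at hxy

/-- Groups with abelian Sylow `2`-subgroups have no section `SL(2, p)`, `p` odd. -/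
theorem not_hasSL2Section_of_abelian_sylow {G : Type*} [Group G] [Finite G] (hp2 : p ≠ 2)
    (hab : ∀ T : Sylow 2 G, IsMulCommutative T) : ¬ HasSL2Section p G := by
  rintro ⟨K, f, hf⟩
  obtain ⟨i, j, hij, hne⟩ := exists_quaternion (p := p) hp2
  apply hne
  have hfin : Finite (Matrix.SpecialLinearGroup (Fin 2) (ZMod p)) := Finite.of_surjective f hf
  -- Sylow 2-subgroups of `K` are abelian
  obtain ⟨T₀⟩ : Nonempty (Sylow 2 K) := inferInstance
  have hT₀ : ∀ a ∈ (T₀ : Subgroup K), ∀ b ∈ (T₀ : Subgroup K), a * b = b * a := by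
    have h1 : IsPGroup 2 ((T₀ : Subgroup K).map K.subtype) := T₀.2.map _
    obtain ⟨T, hT⟩ := h1.exists_le_sylow
    intro a ha b hb
    have h2 : (a : G) ∈ (T : Subgroup G) := hT ⟨a, ha, rfl⟩
    have h3 : (b : G) ∈ (T : Subgroup G) := hT ⟨b, hb, rfl⟩
    have h4 := (hab T).is_comm.comm ⟨(a : G), h2⟩ ⟨(b : G), h3⟩
    have h5 : (a : G) * b = b * a := congrArg Subtype.val h4
    exact Subtype.ext h5
  obtain ⟨T₁, hT₁⟩ : ∃ T₁ : Sylow 2 (Matrix.SpecialLinearGroup (Fin 2) (ZMod p)),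
      (T₁ : Subgroup _) = (T₀ : Subgroup K).map f := ⟨T₀.mapSurjective hf, rfl⟩
  obtain ⟨T₂, hT₂⟩ := hij.exists_le_sylow
  obtain ⟨g, hg⟩ := MulAction.exists_smul_eq (Matrix.SpecialLinearGroup (Fin 2) (ZMod p)) T₁ T₂
  have key : ∀ z ∈ (T₂ : Subgroup (Matrix.SpecialLinearGroup (Fin 2) (ZMod p))),
      ∃ t ∈ (T₀ : Subgroup K), z = g * f t * g⁻¹ := by
    intro z hz
    rw [← hg, Sylow.coe_subgroup_smul, hT₁] at hz
    obtain ⟨_, ⟨t, ht, rfl⟩, rfl⟩ := hz
    exact ⟨t, ht, rfl⟩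
  obtain ⟨s, hs, hsi⟩ := key i (hT₂ (Subgroup.mem_sup_right (Subgroup.mem_zpowers i)))
  obtain ⟨t, ht, htj⟩ := key j (hT₂ (Subgroup.mem_sup_left (Subgroup.mem_zpowers j)))
  rw [hsi, htj]
  have h5 : f s * f t = f t * f s := by rw [← map_mul, hT₀ s hs t ht, map_mul]
  calc g * f s * g⁻¹ * (g * f t * g⁻¹) = g * (f s * f t) * g⁻¹ := by group
    _ = g * (f t * f s) * g⁻¹ := by rw [h5]
    _ = g * f t * g⁻¹ * (g * f s * g⁻¹) := by group

end Matrices

end Cfsg.Agent.H36.NoSL2
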