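import Mathlib
import Cfsg.Prelude.Def_PLocal
import Cfsg.Prelude.Def_Local
import Cfsg.Agent.H34.Thompson
import Cfsg.Agent.H36.Omega
import Cfsg.Agent.H36.WS
import Cfsg.Agent.H36.QuadOn
import Cfsg.Agent.Solv.Core
import Cfsg.Agent.Cop.Basic
import Cfsg.Agent.H51.DStarThm
import Cfsg.Agent.H47.Syl
import Cfsg.Agent.S0607
set_option autoImplicit false
set_option linter.all false

/-!
The analogue of the `ZJ`-theorem: in an action-`p`-stable group with `C(O_p) ≤ O_p` the subgroup
`W(S)` of a Sylow subgroup is normal.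
-/

namespace Cfsg.Agent.H36.WNormal
open Subgroup Cfsg
open scoped commutatorElement

universe u

variable {G : Type u} [Group G] [Finite G] {p : ℕ} [hp : Fact p.Prime]

/-- The subgroups of `S` of the form `thompsonSubgroupOf`, and `Ω₁(Z(J(S)))`. -/
theorem W_le_J_center (S : Subgroup G) {w : G}
    (hw : w ∈ (stableNormalClosure p ↥S).map S.subtype) :
    w ∈ thompsonSubgroupOf p S ∧ ∀ j ∈ thompsonSubgroupOf p S, j * w = w * j := by
  have h1 : w ∈ (omegaCenterThompson p ↥S).map S.subtype :=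
    map_mono (WS.le_omegaCenterThompson p) hw
  rw [Omega.omegaCenterThompson_map_subtype] at h1
  have h2 := Omega.omegaOne_le _ h1
  rwa [Omega.mem_inf_centralizer] at h2

theorem W_comm (S : Subgroup G) {a b : G}
    (ha : a ∈ (stableNormalClosure p ↥S).map S.subtype)
    (hb : b ∈ (stableNormalClosure p ↥S).map S.subtype) : a * b = b * a :=
  (W_le_J_center S hb).2 a (W_le_J_center S ha).1

theorem W_pow (S : Subgroup G) {a : G}
    (ha : a ∈ (stableNormalClosure p ↥S).map S.subtype) : a ^ p = 1 := by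
  obtain ⟨x, hx, rfl⟩ := ha
  have h1 := (QuadOn.omegaCenterThompson_isElementaryAbelian p ↥S).2 x (WS.le_omegaCenterThompson p hx)
  rw [← map_pow, h1, map_one]

theorem W_le (S : Subgroup G) : (stableNormalClosure p ↥S).map S.subtype ≤ S := map_subtype_le _

theorem normalizer_le_normalizer_W (S : Subgroup G) :
    normalizer (S : Set G) ≤ normalizer (((stableNormalClosure p ↥S).map S.subtype : Subgroup G) : Set G) := by
  have := WS.characteristic (S := ↥S) p
  exact H49.normalizer_le_normalizer_map_of_char S _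

/-- Step 1: `W(S)` is normal in `N_G(J(S))`. -/
theorem step1 (hst : IsActionPStable p G) (hc : centralizer (pCore p G : Set G) ≤ pCore p G)
    (S : Sylow p G) :
    normalizer (thompsonSubgroupOf p (S : Subgroup G) : Set G) ≤
      normalizer (((stableNormalClosure p ↥(S : Subgroup G)).map (S : Subgroup G).subtype : Subgroup G) : Set G) := by
  obtain ⟨H, hH⟩ : ∃ H : Subgroup G, H = normalizer (thompsonSubgroupOf p (S : Subgroup G) : Set G) :=
    ⟨_, rfl⟩
  have hSH : (S : Subgroup G) ≤ H := by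
    rw [hH]
    exact le_normalizer.trans (H34.normalizer_le_normalizer_thompson p _)
  have hPS : pCore p G ≤ (S : Subgroup G) := Solv.pCore_le_sylow S
  have hPp := Solv.pCore_isPGroup (G := G) p
  have hstab : IsStableEmbedding p (inclusion hSH) := by
    refine ⟨inclusion_injective hSH, inferInstance, ?_, ?_, ?_, ?_⟩
    · refine ⟨S.subtype hSH, ?_⟩
      rw [Sylow.coe_subtype, inclusion_range]
    · have h1 : (pCore p G).subgroupOf H ≤ pCore p ↥H :=
        Solv.le_pCore inferInstance (hPp.comap_of_injective _ H.subtype_injective)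
      intro x hx
      apply h1
      rw [mem_subgroupOf]
      apply hc
      rw [mem_centralizer_iff]
      intro y hy
      have hyH : y ∈ H := hSH (hPS hy)
      have := mem_centralizer_iff.1 hx ⟨y, hyH⟩ (h1 hy)
      exact congrArg Subtype.val this
    · have e1 : (thompsonSubgroup p ↥(S : Subgroup G)).map (inclusion hSH) =
          (thompsonSubgroupOf p (S : Subgroup G)).subgroupOf H := by
        apply map_injective H.subtype_injective
        rw [map_map, subgroupOf_map_subtype]
        have : H.subtype.comp (inclusion hSH) = (S : Subgroup G).subtype := rfl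
        rw [this]
        have h2 : thompsonSubgroupOf p (S : Subgroup G) ≤ H :=
          (H34.thompsonSubgroupOf_le p _).trans hSH
        rw [inf_eq_left.2 h2]
        rfl
      rw [e1, hH]
      exact normal_in_normalizer
    · intro V hV hVle
      subst hH
      apply hst.2.2 S V
      refine (map_mono hVle).trans ?_
      rw [map_map]
      exact le_rfl
  have h1 := WS.map_normal p _ hstab
  have h2 : ((stableNormalClosure p ↥(S : Subgroup G)).map (inclusion hSH)) =
      (((stableNormalClosure p ↥(S : Subgroup G)).map (S : Subgroup G).subtype).subgroupOf H) := by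
    apply map_injective H.subtype_injective
    rw [map_map, subgroupOf_map_subtype]
    have : H.subtype.comp (inclusion hSH) = (S : Subgroup G).subtype := rfl
    rw [this, inf_eq_left.2 ((W_le _).trans hSH)]
  rw [h2] at h1
  rw [← hH]
  exact (normal_subgroupOf_iff_le_normalizer ((W_le _).trans hSH)).1 h1

/-- The kernel of the action on `O_p(G)/Φ(O_p(G))` is a `p`-group when `C(O_p) ≤ O_p`. -/
theorem sectionKernel_isPGroup (hc : centralizer (pCore p G : Set G) ≤ pCore p G)
    [hN : ((frattini ↥(pCore p G)).map (pCore p G).subtype).Normal] :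
    IsPGroup p (sectionKernel (pCore p G) ((frattini ↥(pCore p G)).map (pCore p G).subtype)) := by
  have hPp := Solv.pCore_isPGroup (G := G) p
  apply H49.isPGroup_of_coprime_eq_one
  intro c hcK hcop
  have h1 : zpowers c ≤ centralizer (pCore p G : Set G) := by
    apply Cop.le_centralizer_of_frattini
    · rw [normalizer_eq_top]; exact le_top
    · rw [Nat.card_zpowers]
      obtain ⟨n, hn⟩ := IsPGroup.iff_card.1 (hPp.to_subgroup (frattini ↥(pCore p G)))
      rw [hn]
      exact Nat.Coprime.pow_right _ hcop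
    · intro a ha k hk
      have ha' : a ∈ sectionKernel (pCore p G) ((frattini ↥(pCore p G)).map (pCore p G).subtype) :=
        (zpowers_le.2 hcK) ha
      have h2 : QuotientGroup.mk' ((frattini ↥(pCore p G)).map (pCore p G).subtype) a ∈
        centralizer (((pCore p G).map (QuotientGroup.mk'
          ((frattini ↥(pCore p G)).map (pCore p G).subtype)) : Subgroup _) : Set _) := ha'
      have h3 := mem_centralizer_iff.1 h2 _ ⟨k, hk, rfl⟩
      rw [← QuotientGroup.eq_one_iff]
      have : QuotientGroup.mk' ((frattini ↥(pCore p G)).map (pCore p G).subtype)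
          (a * k * a⁻¹ * k⁻¹) = 1 := by
        rw [map_mul, map_mul, map_mul, ← h3, map_inv, map_inv]
        group
      exact this
  have h2 : c ∈ pCore p G := hc (h1 (mem_zpowers c))
  exact H49.eq_one_of_coprime_of_pGroup hPp h2 hcop (pow_orderOf_eq_one c)

/-- Step 2: `W(S) ≤ O_p(G)`. -/
theorem step2 (hst : IsActionPStable p G) (hc : centralizer (pCore p G : Set G) ≤ pCore p G)
    (S : Sylow p G) :
    (stableNormalClosure p ↥(S : Subgroup G)).map (S : Subgroup G).subtype ≤ pCore p G := by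
  obtain ⟨W, hW⟩ : ∃ W : Subgroup G, W = (stableNormalClosure p ↥(S : Subgroup G)).map (S : Subgroup G).subtype :=
    ⟨_, rfl⟩
  have hWS : W ≤ (S : Subgroup G) := by rw [hW]; exact W_le _
  have hWc : ∀ a ∈ W, ∀ b ∈ W, a * b = b * a := by
    intro a ha b hb; rw [hW] at ha hb; exact W_comm _ ha hb
  have hSW : (S : Subgroup G) ≤ normalizer (W : Set G) := by
    rw [hW]; exact le_normalizer.trans (normalizer_le_normalizer_W _)
  have hPS : pCore p G ≤ (S : Subgroup G) := Solv.pCore_le_sylow S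
  have hPp := Solv.pCore_isPGroup (G := G) p
  rw [← hW]
  intro w hw
  have hfr : ((frattini ↥(pCore p G)).map (pCore p G).subtype).Normal := inferInstance
  have h1 : ⁅⁅pCore p G, zpowers w⁆, zpowers w⁆ ≤ (frattini ↥(pCore p G)).map (pCore p G).subtype := by
    have e1 : zpowers w ≤ W := zpowers_le.2 hw
    have e2 : ⁅pCore p G, zpowers w⁆ ≤ W := by
      refine (commutator_mono hPS e1).trans ?_
      rw [commutator_comm]
      exact le_normalizer_iff_commutator_le_left.1 hSW
    have e3 : ⁅⁅pCore p G, zpowers w⁆, zpowers w⁆ ≤ ⊥ := by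
      refine (commutator_mono e2 e1).trans ?_
      rw [le_bot_iff, commutator_eq_bot_iff_le_centralizer]
      intro a ha
      rw [mem_centralizer_iff]
      intro b hb
      exact hWc b hb a ha
    exact e3.trans bot_le
  obtain ⟨D, hDn, hKD, ⟨k, hk⟩, hwD⟩ := hst.2.1 w h1
  have hKp := sectionKernel_isPGroup hc
  have hDp : IsPGroup p D := by
    obtain ⟨n, hn⟩ := IsPGroup.iff_card.1 hKp
    apply IsPGroup.iff_card.2
    refine ⟨n + k, ?_⟩
    have e := relIndex_mul_relIndex ⊥ _ D bot_le hKD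
    rw [relIndex_bot_left, relIndex_bot_left] at e
    rw [pow_add, ← hn, ← hk, e]
  exact Solv.le_pCore hDn hDp hwD

/-- The normal closure of `W` when the conjugates of `W` commute elementwise. -/
theorem normalClosure_elementary {W : Subgroup G} (hWp : ∀ a ∈ W, a ^ p = 1)
    (hWc : ∀ a ∈ W, ∀ g : G, ∀ b ∈ W, a * (g * b * g⁻¹) = (g * b * g⁻¹) * a) :
    IsElementaryAbelian p (normalClosure (W : Set G)) := by
  have h1 : ∀ x ∈ Group.conjugatesOfSet (W : Set G), ∀ y ∈ Group.conjugatesOfSet (W : Set G),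
      x * y = y * x := by
    intro x hx y hy
    rw [Group.mem_conjugatesOfSet_iff] at hx hy
    obtain ⟨a, ha, hax⟩ := hx
    obtain ⟨b, hb, hby⟩ := hy
    rw [isConj_iff] at hax hby
    obtain ⟨g, rfl⟩ := hax
    obtain ⟨h, rfl⟩ := hby
    have h2 := hWc a ha (g⁻¹ * h) b hb
    calc g * a * g⁻¹ * (h * b * h⁻¹) = g * (a * (g⁻¹ * h * b * (g⁻¹ * h)⁻¹)) * g⁻¹ := by group
      _ = g * (g⁻¹ * h * b * (g⁻¹ * h)⁻¹ * a) * g⁻¹ := by rw [h2]
      _ = h * b * h⁻¹ * (g * a * g⁻¹) := by group
  have h2 : normalClosure (W : Set G) ≤ centralizer (normalClosure (W : Set G) : Set G) := by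
    have h3 : normalClosure (W : Set G) ≤ centralizer (Group.conjugatesOfSet (W : Set G)) := by
      unfold normalClosure
      rw [closure_le]
      intro x hx
      show x ∈ centralizer (Group.conjugatesOfSet (W : Set G))
      rw [mem_centralizer_iff]
      intro y hy
      exact h1 y hy x hx
    conv_lhs => unfold normalClosure
    rw [closure_le]
    intro x hx
    show x ∈ centralizer (normalClosure (W : Set G) : Set G)
    rw [mem_centralizer_iff]
    intro y hy
    exact (mem_centralizer_iff.1 (h3 hy) x hx).symm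
  have h3 : ∀ a ∈ normalClosure (W : Set G), ∀ b ∈ normalClosure (W : Set G), a * b = b * a :=
    fun a ha b hb => mem_centralizer_iff.1 (h2 hb) a ha
  rw [H34.isElementaryAbelian_iff]
  refine ⟨h3, ?_⟩
  intro a ha
  have : ∀ a ∈ normalClosure (W : Set G), a ∈ normalClosure (W : Set G) ∧ a ^ p = 1 := by
    intro a ha
    unfold normalClosure at ha
    induction ha using Subgroup.closure_induction with
    | mem x hx =>
      refine ⟨Subgroup.subset_closure hx, ?_⟩
      rw [Group.mem_conjugatesOfSet_iff] at hx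
      obtain ⟨a, ha, hax⟩ := hx
      rw [isConj_iff] at hax
      obtain ⟨g, rfl⟩ := hax
      rw [conj_pow, hWp a ha, mul_one, mul_inv_cancel]
    | one => exact ⟨one_mem _, one_pow _⟩
    | mul x y _ _ hx hy =>
      refine ⟨mul_mem hx.1 hy.1, ?_⟩
      have : Commute x y := h3 x hx.1 y hy.1
      rw [this.mul_pow, hx.2, hy.2, one_mul]
    | inv x _ hx => exact ⟨inv_mem hx.1, by rw [inv_pow, hx.2, inv_one]⟩
  exact (this a ha).2

/-- Step 3: the conjugates of `W(S)` commute elementwise. -/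
theorem step3 (hst : IsActionPStable p G) (hc : centralizer (pCore p G : Set G) ≤ pCore p G)
    (S : Sylow p G) {W : Subgroup G}
    (hW : W = (stableNormalClosure p ↥(S : Subgroup G)).map (S : Subgroup G).subtype) :
    ∀ a ∈ W, ∀ g : G, ∀ b ∈ W, a * (g * b * g⁻¹) = (g * b * g⁻¹) * a := by
  have hWP : W ≤ pCore p G := by rw [hW]; exact step2 hst hc S
  have hPS : pCore p G ≤ (S : Subgroup G) := Solv.pCore_le_sylow S
  have hWS : W ≤ (S : Subgroup G) := by rw [hW]; exact W_le _
  have hWc : ∀ a ∈ W, ∀ b ∈ W, a * b = b * a := by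
    intro a ha b hb; rw [hW] at ha hb; exact W_comm _ ha hb
  have hSW : (S : Subgroup G) ≤ normalizer (W : Set G) := by
    rw [hW]; exact le_normalizer.trans (normalizer_le_normalizer_W _)
  intro a ha g b hb
  -- `x = g b g⁻¹ ∈ O_p(G) ≤ S`
  have hxP : g * b * g⁻¹ ∈ pCore p G := (Solv.pCore_normal p).conj_mem b (hWP hb) g
  have hxS : g * b * g⁻¹ ∈ (S : Subgroup G) := hPS hxP
  have hq : QuadOn.Quad W (g * b * g⁻¹) := by
    rw [QuadOn.quad_iff]
    intro v hv
    -- `⁅x, v⁆ ∈ W^g`
    have h1 : g⁻¹ * v * g ∈ pCore p G := by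
      simpa using (Solv.pCore_normal (G := G) p).conj_mem v (hWP hv) g⁻¹
    have h2 : (g⁻¹ * v * g) * b⁻¹ * (g⁻¹ * v * g)⁻¹ ∈ W :=
      (mem_normalizer_iff.1 (hSW (hPS h1)) _).1 (inv_mem hb)
    have h3 : b * ((g⁻¹ * v * g) * b⁻¹ * (g⁻¹ * v * g)⁻¹) ∈ W := mul_mem hb h2
    have h4 := hWc b hb _ h3
    have h5 : ⁅g * b * g⁻¹, v⁆ = g * (b * ((g⁻¹ * v * g) * b⁻¹ * (g⁻¹ * v * g)⁻¹)) * g⁻¹ := by
      rw [commutatorElement_def]; group
    rw [h5]
    show g * b * g⁻¹ * (g * (b * ((g⁻¹ * v * g) * b⁻¹ * (g⁻¹ * v * g)⁻¹)) * g⁻¹) =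
      g * (b * ((g⁻¹ * v * g) * b⁻¹ * (g⁻¹ * v * g)⁻¹)) * g⁻¹ * (g * b * g⁻¹)
    calc g * b * g⁻¹ * (g * (b * ((g⁻¹ * v * g) * b⁻¹ * (g⁻¹ * v * g)⁻¹)) * g⁻¹)
        = g * (b * (b * ((g⁻¹ * v * g) * b⁻¹ * (g⁻¹ * v * g)⁻¹))) * g⁻¹ := by group
      _ = g * ((b * ((g⁻¹ * v * g) * b⁻¹ * (g⁻¹ * v * g)⁻¹)) * b) * g⁻¹ := by rw [h4]
      _ = _ := by group
  have hq' : QuadOn.Quad (stableNormalClosure p ↥(S : Subgroup G)) ⟨g * b * g⁻¹, hxS⟩ := by
    apply QuadOn.quad_of_map (S : Subgroup G).subtype (subtype_injective _)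
    rw [← hW]; exact hq
  rw [hW] at ha
  obtain ⟨a', ha', rfl⟩ := ha
  have := QuadOn.quad_stableNormalClosure hq' a' ha'
  exact (congrArg Subtype.val this).symm

/-- `G = N_G(S ∩ D) C`, elementwise. -/
theorem frattini_elt (S : Sylow p G) (C : Subgroup G) [C.Normal] (g : G) :
    ∃ m ∈ normalizer (((S : Subgroup G) ⊓
      (pCore p (G ⧸ C)).comap (QuotientGroup.mk' C) : Subgroup G) : Set G), ∃ c ∈ C, g = m * c := by
  have h : g ∈ normalizer (((S : Subgroup G) ⊓
      (pCore p (G ⧸ C)).comap (QuotientGroup.mk' C) : Subgroup G) : Set G) ⊔ C := by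
    rw [H51.frattini_pCore_quotient]; trivial
  obtain ⟨m, hm, c, hc, rfl⟩ := Subgroup.mem_sup_of_normal_right.mp h
  exact ⟨m, hm, c, hc, rfl⟩

theorem W_normal (hst : IsActionPStable p G) (hc : centralizer (pCore p G : Set G) ≤ pCore p G)
    (S : Sylow p G) :
    ((stableNormalClosure p ↥(S : Subgroup G)).map (S : Subgroup G).subtype).Normal := by
  obtain ⟨W, hW⟩ : ∃ W : Subgroup G, W = (stableNormalClosure p ↥(S : Subgroup G)).map (S : Subgroup G).subtype :=
    ⟨_, rfl⟩
  have hWP : W ≤ pCore p G := by rw [hW]; exact step2 hst hc S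
  have hPS : pCore p G ≤ (S : Subgroup G) := Solv.pCore_le_sylow S
  have hJW : ∀ w ∈ W, ∀ j ∈ thompsonSubgroupOf p (S : Subgroup G), j * w = w * j := by
    intro w hw; rw [hW] at hw; exact (W_le_J_center _ hw).2
  have hstep1 : normalizer (thompsonSubgroupOf p (S : Subgroup G) : Set G) ≤ normalizer (W : Set G) := by
    rw [hW]; exact step1 hst hc S
  have hV0 : IsElementaryAbelian p (normalClosure (W : Set G)) := by
    apply normalClosure_elementary
    · intro a ha; rw [hW] at ha; exact W_pow _ ha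
    · exact step3 hst hc S hW
  obtain ⟨V, hV⟩ : ∃ V : Subgroup G, V = normalClosure (W : Set G) := ⟨_, rfl⟩
  have hVn : V.Normal := by rw [hV]; exact normalClosure_normal
  rw [← hV] at hV0
  have hWV : W ≤ V := by rw [hV]; exact le_normalClosure
  have hVP : V ≤ pCore p G := by rw [hV]; exact normalClosure_le_normal hWP
  have hVS : V ≤ (S : Subgroup G) := hVP.trans hPS
  obtain ⟨C, hC⟩ : ∃ C : Subgroup G, C = centralizer (V : Set G) := ⟨_, rfl⟩
  have hCn : C.Normal := by rw [hC]; infer_instance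
  have hCW : ∀ c ∈ C, ∀ w ∈ W, c * w = w * c := by
    intro c hcC w hw
    rw [hC] at hcC
    exact (mem_centralizer_iff.1 hcC w (hWV hw)).symm
  -- Step 4: quadratic max elementary abelian subgroups centralize `V`
  have step4 : ∀ B ∈ H34.maxEA p (S : Subgroup G), ⁅⁅V, B⁆, B⁆ = ⊥ → ⁅V, B⁆ = ⊥ := by
    intro B hB hq
    obtain ⟨D, hD⟩ : ∃ D : Subgroup G, D = (pCore p (G ⧸ C)).comap (QuotientGroup.mk' C) := ⟨_, rfl⟩
    have hBD : B ≤ D := by
      intro b hb
      have hqb : ⁅⁅V, zpowers b⁆, zpowers b⁆ = ⊥ := by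
        rw [← le_bot_iff, ← hq]
        exact commutator_mono (commutator_mono le_rfl (zpowers_le.2 hb)) (zpowers_le.2 hb)
      have h1 := hst.1 V hV0 b hqb
      subst hC
      rw [hD]
      exact h1
    have hBT : B ≤ (S : Subgroup G) ⊓ D := le_inf hB.1 hBD
    have hJ : thompsonSubgroupOf p ((S : Subgroup G) ⊓ D) ≤ thompsonSubgroupOf p (S : Subgroup G) := by
      rw [H34.thompsonSubgroupOf_eq, H34.thompsonSubgroupOf_eq]
      apply sSup_le_sSup
      intro A hA
      refine ⟨hA.1.trans inf_le_left, hA.2.1, fun E hE hE2 => ?_⟩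
      exact (hB.2.2 E hE hE2).trans (hA.2.2 B hBT hB.2.1)
    have hBJ : B ≤ thompsonSubgroupOf p ((S : Subgroup G) ⊓ D) := by
      rw [H34.thompsonSubgroupOf_eq]
      apply le_sSup
      exact ⟨hBT, hB.2.1, fun E hE hE2 => hB.2.2 E (hE.trans inf_le_left) hE2⟩
    have hVC : V ≤ centralizer (thompsonSubgroupOf p ((S : Subgroup G) ⊓ D) : Set G) := by
      rw [hV]
      unfold normalClosure
      rw [closure_le]
      intro x hx
      rw [Group.mem_conjugatesOfSet_iff] at hx
      obtain ⟨w, hw, hwx⟩ := hx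
      rw [isConj_iff] at hwx
      obtain ⟨g, rfl⟩ := hwx
      obtain ⟨m, hm, c, hc', rfl⟩ := frattini_elt S C g
      rw [← hD] at hm
      show m * c * w * (m * c)⁻¹ ∈ centralizer _
      have e1 : m * c * w * (m * c)⁻¹ = m * w * m⁻¹ := by
        calc m * c * w * (m * c)⁻¹ = m * (c * w) * c⁻¹ * m⁻¹ := by group
          _ = m * (w * c) * c⁻¹ * m⁻¹ := by rw [hCW c hc' w hw]
          _ = m * w * m⁻¹ := by group
      rw [e1, mem_centralizer_iff]
      intro j hj
      have hm' : m⁻¹ ∈ normalizer (thompsonSubgroupOf p ((S : Subgroup G) ⊓ D) : Set G) :=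
        inv_mem (H34.normalizer_le_normalizer_thompson p _ hm)
      have hj' : m⁻¹ * j * m ∈ thompsonSubgroupOf p ((S : Subgroup G) ⊓ D) := by
        have := (mem_normalizer_iff.1 hm' j).1 hj
        simpa using this
      have h2 := hJW w hw _ (hJ hj')
      calc j * (m * w * m⁻¹) = m * ((m⁻¹ * j * m) * w) * m⁻¹ := by group
        _ = m * (w * (m⁻¹ * j * m)) * m⁻¹ := by rw [h2]
        _ = m * w * m⁻¹ * j := by group
    rw [commutator_eq_bot_iff_le_centralizer]
    exact hVC.trans (centralizer_le hBJ)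
  -- `J(S)` centralizes `V`
  have hJC : ∀ A ∈ H34.maxEA p (S : Subgroup G), A ≤ C := by
    intro A hA
    have hV' : IsElementaryAbelian p (V.subgroupOf (S : Subgroup G)) :=
      H34.isElementaryAbelian_subgroupOf _ hV0
    have hA' : A.subgroupOf (S : Subgroup G) ∈ maxElementaryAbelianSubgroups p ↥(S : Subgroup G) := by
      refine ⟨H34.isElementaryAbelian_subgroupOf _ hA.2.1, fun E hE => ?_⟩
      have h1 := hA.2.2 (E.map (S : Subgroup G).subtype) (map_subtype_le _)
        (H34.isElementaryAbelian_map _ hE)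
      rw [card_map_of_injective (subtype_injective _)] at h1
      rwa [Nat.card_congr (subgroupOfEquivOfLe hA.1).toEquiv]
    obtain ⟨h1, h2, h3⟩ := S0607.result (V.subgroupOf (S : Subgroup G)) hV' _ hA'
    obtain ⟨B, hB⟩ : ∃ B, B = ⁅V.subgroupOf (S : Subgroup G), A.subgroupOf (S : Subgroup G)⁆ ⊔
      (A.subgroupOf (S : Subgroup G) ⊓ centralizer ((⁅V.subgroupOf (S : Subgroup G),
        A.subgroupOf (S : Subgroup G)⁆ : Subgroup ↥(S : Subgroup G)) : Set ↥(S : Subgroup G))) := ⟨_, rfl⟩
    rw [← hB] at h1 h2 h3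
    have hVm : (V.subgroupOf (S : Subgroup G)).map (S : Subgroup G).subtype = V := by
      rw [subgroupOf_map_subtype, inf_eq_left.2 hVS]
    have hAm : (A.subgroupOf (S : Subgroup G)).map (S : Subgroup G).subtype = A := by
      rw [subgroupOf_map_subtype, inf_eq_left.2 hA.1]
    have hBm : B.map (S : Subgroup G).subtype ∈ H34.maxEA p (S : Subgroup G) := by
      refine ⟨map_subtype_le _, H34.isElementaryAbelian_map _ h1.1, fun E hE hE2 => ?_⟩
      have h4 := h1.2 (E.subgroupOf (S : Subgroup G)) (H34.isElementaryAbelian_subgroupOf _ hE2)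
      rw [card_map_of_injective (subtype_injective _)]
      rwa [Nat.card_congr (subgroupOfEquivOfLe hE).toEquiv] at h4
    have h5 : ⁅⁅V, B.map (S : Subgroup G).subtype⁆, B.map (S : Subgroup G).subtype⁆ = ⊥ := by
      conv_lhs => rw [← hVm]
      rw [← map_commutator, ← map_commutator, h2, Subgroup.map_bot]
    have h6 := step4 _ hBm h5
    have h7 : ⁅V.subgroupOf (S : Subgroup G), B⁆ = ⊥ := by
      rw [← Subgroup.map_eq_bot_iff_of_injective _ (S : Subgroup G).subtype_injective,
        map_commutator, hVm, h6]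
    have h8 : ⁅V.subgroupOf (S : Subgroup G), A.subgroupOf (S : Subgroup G)⁆ = ⊥ := by
      by_contra h
      exact h3 h h7
    have h9 : ⁅V, A⁆ = ⊥ := by
      rw [← hVm, ← hAm, ← map_commutator, h8, Subgroup.map_bot]
    rw [commutator_eq_bot_iff_le_centralizer, le_centralizer_iff] at h9
    rw [hC]; exact h9
  have hJSC : thompsonSubgroupOf p ((S : Subgroup G) ⊓ C) = thompsonSubgroupOf p (S : Subgroup G) :=
    H34.thompsonSubgroupOf_eq_of_le p inf_le_left (fun A hA => le_inf hA.1 (hJC A hA))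
  -- Frattini
  rw [← hW]
  refine ⟨fun w hw g => ?_⟩
  have hT := H47.SylIn.inf_normal (H47.sylIn_top S) (N := C) le_top (by rw [normalizer_eq_top])
  obtain ⟨m, -, hm, c, hc', hg⟩ := hT.frattini (L := ⊤) le_top (by rw [normalizer_eq_top])
    (mem_top g⁻¹)
  have hm2 : m ∈ normalizer (W : Set G) := by
    apply hstep1
    rw [← hJSC]
    exact H34.normalizer_le_normalizer_thompson p _ hm
  have hg' : g = m⁻¹ * c⁻¹ := by rw [← mul_inv_rev, ← hg, inv_inv]
  have e1 : g * w * g⁻¹ = m⁻¹ * w * m⁻¹⁻¹ := by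
    rw [hg']
    have e2 := hCW c⁻¹ (inv_mem hc') w hw
    calc m⁻¹ * c⁻¹ * w * (m⁻¹ * c⁻¹)⁻¹ = m⁻¹ * (c⁻¹ * w) * c * m := by group
      _ = m⁻¹ * (w * c⁻¹) * c * m := by rw [e2]
      _ = m⁻¹ * w * m⁻¹⁻¹ := by group
  rw [e1]
  exact (mem_normalizer_iff.1 (inv_mem hm2) w).1 hw

end Cfsg.Agent.H36.WNormal
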