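import Mathlib
import Cfsg.Prelude.Def_PLocal
import Cfsg.Prelude.Def_Local
import Cfsg.Agent.H36.QuadSL2
import Cfsg.Agent.H36.QuadStab
import Cfsg.Agent.H36.NoSL2
import Cfsg.Agent.H36.WS
import Cfsg.Agent.H36.WNormal
import Cfsg.Agent.H63.PLen
import Cfsg.Agent.Solv.Core
import Cfsg.Agent.Solv.Frattini
set_option autoImplicit false
set_option linter.all false

/-!
Groups without section `SL(2, p)` are `p`-stable in the action sense.
-/

namespace Cfsg.Agent.H36.ActStab
open Subgroup Cfsg Cfsg.Agent.H36.QuadSL2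
open scoped commutatorElement

variable {G : Type*} [Group G] [Finite G] {p : ℕ} [hp : Fact p.Prime]

/-- The quotient `P / Φ(P)` for a normal `p`-subgroup `P`. -/
theorem map_frattini_elementary {P : Subgroup G} (hP : IsPGroup p P)
    [hN : ((frattini ↥P).map P.subtype).Normal] :
    IsElementaryAbelian p (P.map (QuotientGroup.mk' ((frattini ↥P).map P.subtype))) := by
  rw [H34.isElementaryAbelian_iff]
  constructor
  · rintro _ ⟨a, ha, rfl⟩ _ ⟨b, hb, rfl⟩
    have h1 : (⁅(⟨a, ha⟩ : ↥P), ⟨b, hb⟩⁆ : ↥P) ∈ frattini ↥P :=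
      Solv.commutator_le_frattini_of_pGroup hP (commutator_mem_commutator (mem_top _) (mem_top _))
    have h2 : (QuotientGroup.mk' ((frattini ↥P).map P.subtype)) (a * b * a⁻¹ * b⁻¹) = 1 := by
      apply (QuotientGroup.eq_one_iff _).2
      exact ⟨_, h1, rfl⟩
    rw [map_mul, map_mul, map_mul, map_inv, map_inv, mul_inv_eq_one, mul_inv_eq_iff_eq_mul] at h2
    exact h2
  · rintro _ ⟨a, ha, rfl⟩
    have h1 : (⟨a, ha⟩ : ↥P) ^ p ∈ frattini ↥P := Solv.pow_mem_frattini_of_pGroup hP _
    rw [← map_pow]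
    apply (QuotientGroup.eq_one_iff _).2
    exact ⟨_, h1, rfl⟩

theorem isPStableOnSection (hp2 : p ≠ 2) (hG : ¬ HasSL2Section p G) (K N : Subgroup G)
    [hN : N.Normal] [hK : K.Normal]
    (hV : IsElementaryAbelian p (K.map (QuotientGroup.mk' N))) : IsPStableOnSection p K N := by
  intro a ha
  have hVn : (K.map (QuotientGroup.mk' N)).Normal := hK.map _ (QuotientGroup.mk'_surjective N)
  have hG' : ¬ HasSL2Section p (G ⧸ N) := fun h => hG (h.of_quotient N)
  obtain ⟨C, hC⟩ : ∃ C : Subgroup (G ⧸ N), C = centralizer ((K.map (QuotientGroup.mk' N) : Subgroup (G ⧸ N)) : Set (G ⧸ N)) :=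
    ⟨_, rfl⟩
  have hCn : C.Normal := by rw [hC]; infer_instance
  have h1 : (QuotientGroup.mk (QuotientGroup.mk' N a) : (G ⧸ N) ⧸ C) ∈ pCore p ((G ⧸ N) ⧸ C) := by
    have h2 := QuadStab.isPStableOn hp2 hG' (K.map (QuotientGroup.mk' N)) hV (QuotientGroup.mk' N a) (by
      rw [← MonoidHom.map_zpowers, ← map_commutator, ← map_commutator, Subgroup.map_eq_bot_iff,
        QuotientGroup.ker_mk']
      exact ha)
    subst hC
    exact h2
  obtain ⟨E, hE⟩ : ∃ E : Subgroup (G ⧸ N), E = (pCore p ((G ⧸ N) ⧸ C)).comap (QuotientGroup.mk' C) :=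
    ⟨_, rfl⟩
  have hEn : E.Normal := by rw [hE]; infer_instance
  have hCE : C ≤ E := by rw [hE]; exact H63.le_comap_mk' C _
  have hker : sectionKernel K N = C.comap (QuotientGroup.mk' N) := by rw [hC]; rfl
  refine ⟨E.comap (QuotientGroup.mk' N), inferInstance, ?_, ?_, ?_⟩
  · rw [hker]; exact comap_mono hCE
  · rw [hker, relIndex_comap, map_comap_eq_self_of_surjective (QuotientGroup.mk'_surjective N), hE,
      H63.relIndex_comap_mk']
    exact IsPGroup.iff_card.1 (Solv.pCore_isPGroup p)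
  · rw [hE]; exact h1

/-- Groups without section `SL(2, p)`, `p` odd, are `p`-stable in the action sense. -/
theorem isActionPStable (hp2 : p ≠ 2) (hG : ¬ HasSL2Section p G) : IsActionPStable p G := by
  refine ⟨fun V _ hV => QuadStab.isPStableOn hp2 hG V hV, ?_, ?_⟩
  · exact isPStableOnSection hp2 hG _ _ (map_frattini_elementary (Solv.pCore_isPGroup p))
  · intro S V _ hV
    apply QuadStab.isPStableOn hp2 (fun h => hG h.of_subgroup) V
    have h1 := H34.isElementaryAbelian_map (S : Subgroup G).subtype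
      (QuadOn.omegaCenterThompson_isElementaryAbelian p ↥(S : Subgroup G))
    have h2 := H34.isElementaryAbelian_mono hV h1
    rw [H34.isElementaryAbelian_iff] at h2 ⊢
    constructor
    · intro a ha b hb
      exact Subtype.ext (h2.1 a ⟨a, ha, rfl⟩ b ⟨b, hb, rfl⟩)
    · intro a ha
      exact Subtype.ext (h2.2 a ⟨a, ha, rfl⟩)

end Cfsg.Agent.H36.ActStab
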