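import Mathlib
import Cfsg.Prelude.Def_PLocal
import Cfsg.Prelude.Def_Local
import Cfsg.Agent.Solv.Core
import Cfsg.Agent.H36.PQuot
import Cfsg.Agent.H36.PConstr
set_option autoImplicit false
set_option linter.all false

/-!
The action of `N_G(P)` on a `p`-subgroup `P` is not changed by passing to `G ⧸ N`, `N` normal of
order prime to `p`.
-/

namespace Cfsg.Agent.H36.PStab
open Subgroup Cfsg Cfsg.Agent.Solv Cfsg.Agent.H36.PQuot

variable {G : Type*} [Group G] [Finite G] {p : ℕ} [hp : Fact p.Prime]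
variable {N : Subgroup G} [N.Normal]

theorem mem_pCore_equiv_iff {A B : Type*} [Group A] [Group B] (e : A ≃* B) (x : A) :
    x ∈ pCore p A ↔ e x ∈ pCore p B := by
  rw [← map_pCore p e]
  constructor
  · intro h; exact ⟨x, h, rfl⟩
  · rintro ⟨y, hy, hyx⟩
    have : y = x := e.injective hyx
    rwa [← this]

theorem mem_pCore_of_surj {A B : Type*} [Group A] [Group B] (φ : A →* B)
    (hφ : Function.Surjective φ) (K : Subgroup A) [K.Normal] (hK : φ.ker = K) (x : A) :
    QuotientGroup.mk' K x ∈ pCore p (A ⧸ K) ↔ φ x ∈ pCore p B := by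
  subst hK
  exact mem_pCore_equiv_iff (QuotientGroup.quotientKerEquivOfSurjective φ hφ) (QuotientGroup.mk' _ x)

theorem mk_mem_normalizer_of_mem {P : Subgroup G} {a : G} (ha : a ∈ normalizer (P : Set G)) :
    QuotientGroup.mk' N a ∈
      normalizer ((P.map (QuotientGroup.mk' N) : Subgroup (G ⧸ N)) : Set (G ⧸ N)) := by
  rw [mem_normalizer_iff_map_conj_eq] at ha ⊢
  have : (P.map (QuotientGroup.mk' N)).map (MulAut.conj (QuotientGroup.mk' N a)).toMonoidHom =
      (P.map (MulAut.conj a).toMonoidHom).map (QuotientGroup.mk' N) := by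
    rw [map_map, map_map]
    congr 1
  exact this.trans (congrArg _ ha)

theorem mem_pCore_normMod_iff (hN : (Nat.card N).Coprime p) {P : Subgroup G} (hP : IsPGroup p P)
    {a : G} (ha : a ∈ normalizer (P : Set G))
    (ha' : QuotientGroup.mk' N a ∈
      normalizer ((P.map (QuotientGroup.mk' N) : Subgroup (G ⧸ N)) : Set (G ⧸ N))) :
    QuotientGroup.mk' ((centralizer (P : Set G)).subgroupOf (normalizer (P : Set G))) ⟨a, ha⟩ ∈
        pCore p (↥(normalizer (P : Set G)) ⧸ (centralizer (P : Set G)).subgroupOf (normalizer (P : Set G))) ↔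
      QuotientGroup.mk' ((centralizer ((P.map (QuotientGroup.mk' N) : Subgroup (G ⧸ N)) : Set (G ⧸ N))).subgroupOf
          (normalizer ((P.map (QuotientGroup.mk' N) : Subgroup (G ⧸ N)) : Set (G ⧸ N)))) ⟨QuotientGroup.mk' N a, ha'⟩ ∈
        pCore p (↥(normalizer ((P.map (QuotientGroup.mk' N) : Subgroup (G ⧸ N)) : Set (G ⧸ N))) ⧸
          (centralizer ((P.map (QuotientGroup.mk' N) : Subgroup (G ⧸ N)) : Set (G ⧸ N))).subgroupOf
          (normalizer ((P.map (QuotientGroup.mk' N) : Subgroup (G ⧸ N)) : Set (G ⧸ N)))) := by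
  obtain ⟨P', hP'⟩ : ∃ P', P' = P.map (QuotientGroup.mk' N) := ⟨_, rfl⟩
  have h1 : ∀ x ∈ normalizer (P : Set G), QuotientGroup.mk' N x ∈ normalizer (P' : Set (G ⧸ N)) := by
    intro x hx; rw [hP']; exact mk_mem_normalizer_of_mem hx
  let ψ : ↥(normalizer (P : Set G)) →* ↥(normalizer (P' : Set (G ⧸ N))) :=
    ((QuotientGroup.mk' N).comp (normalizer (P : Set G)).subtype).codRestrict _ (fun x => h1 x x.2)
  have hψs : Function.Surjective ψ := by
    rintro ⟨y, hy⟩
    rw [hP', ← map_normalizer hN hP] at hy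
    obtain ⟨x, hx, rfl⟩ := hy
    exact ⟨⟨x, hx⟩, rfl⟩
  have hker : ((QuotientGroup.mk' ((centralizer (P' : Set (G ⧸ N))).subgroupOf
      (normalizer (P' : Set (G ⧸ N))))).comp ψ).ker =
      (centralizer (P : Set G)).subgroupOf (normalizer (P : Set G)) := by
    ext x
    rw [MonoidHom.mem_ker, MonoidHom.comp_apply, mem_subgroupOf]
    have e1 : (QuotientGroup.mk' ((centralizer (P' : Set (G ⧸ N))).subgroupOf
      (normalizer (P' : Set (G ⧸ N))))) (ψ x) = 1 ↔ ψ x ∈ (centralizer (P' : Set (G ⧸ N))).subgroupOf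
      (normalizer (P' : Set (G ⧸ N))) := QuotientGroup.eq_one_iff _
    rw [e1, mem_subgroupOf]
    constructor
    · intro h
      apply mem_centralizer_of_mk hN hP x.2
      have h2 : QuotientGroup.mk' N (x : G) ∈ centralizer (P' : Set (G ⧸ N)) := h
      rwa [hP'] at h2
    · intro h
      have h2 : QuotientGroup.mk' N (x : G) ∈ centralizer (P' : Set (G ⧸ N)) := by
        rw [hP', ← map_centralizer hN hP]
        exact ⟨x, h, rfl⟩
      exact h2
  have key := mem_pCore_of_surj (p := p) ((QuotientGroup.mk' ((centralizer (P' : Set (G ⧸ N))).subgroupOf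
      (normalizer (P' : Set (G ⧸ N))))).comp ψ) ((QuotientGroup.mk'_surjective _).comp hψs)
      ((centralizer (P : Set G)).subgroupOf (normalizer (P : Set G))) hker ⟨a, ha⟩
  subst hP'
  exact key

theorem isPStable_iff_quotient (hO : pCore p G ≠ ⊥) :
    IsPStable p G ↔ IsPStable p (G ⧸ pPrimeCore p G) := by
  have hN : (Nat.card (pPrimeCore p G)).Coprime p := pPrimeCore_card_coprime (G := G) p
  have hcore : pPrimeCore p (G ⧸ pPrimeCore p G) = ⊥ := pPrimeCore_quotient_pPrimeCore p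
  have hO' : pCore p (G ⧸ pPrimeCore p G) ≠ ⊥ := by
    intro h
    apply hO
    have h1 := map_pCore_le p (QuotientGroup.mk' (pPrimeCore p G)) (QuotientGroup.mk'_surjective _)
    rw [h, le_bot_iff, Subgroup.map_eq_bot_iff, QuotientGroup.ker_mk'] at h1
    have h2 := PQuot.inf_eq_bot hN (pCore_isPGroup (G := G) p)
    rwa [inf_eq_right.2 h1] at h2
  constructor
  · rintro ⟨hodd, -, h⟩
    refine ⟨hodd, hO', ?_⟩
    intro A' P' hA' hP' hnorm hle hnormal hq
    -- `P'` is normal
    have hP'n : P'.Normal := by rw [hcore, bot_sup_eq] at hnormal; exact hnormal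
    have hR' : IsPGroup p (A' ⊔ P' : Subgroup _) := IsPGroup.to_sup_of_normal_right hA' hP'
    obtain ⟨R, hR, hRm⟩ := exists_lift _ hR'
    obtain ⟨P, hPR, hPm, hPc⟩ : ∃ P : Subgroup G, P ≤ R ∧
        P.map (QuotientGroup.mk' (pPrimeCore p G)) = P' ∧
        ∀ x ∈ R, QuotientGroup.mk' (pPrimeCore p G) x ∈ P' → x ∈ P := by
      refine ⟨R ⊓ P'.comap (QuotientGroup.mk' _), inf_le_left, ?_, fun x hx hx' => ⟨hx, hx'⟩⟩
      apply le_antisymm
      · rintro _ ⟨x, hx, rfl⟩; exact hx.2
      · intro y hy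
        have : y ∈ R.map (QuotientGroup.mk' (pPrimeCore p G)) := by
          rw [hRm]; exact (le_sup_right : P' ≤ A' ⊔ P') hy
        obtain ⟨x, hx, rfl⟩ := this
        exact ⟨x, ⟨hx, hy⟩, rfl⟩
    obtain ⟨A, hAR, hAm⟩ : ∃ A : Subgroup G, A ≤ R ∧
        A.map (QuotientGroup.mk' (pPrimeCore p G)) = A' := by
      refine ⟨R ⊓ A'.comap (QuotientGroup.mk' _), inf_le_left, ?_⟩
      apply le_antisymm
      · rintro _ ⟨x, hx, rfl⟩; exact hx.2
      · intro y hy
        have : y ∈ R.map (QuotientGroup.mk' (pPrimeCore p G)) := by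
          rw [hRm]; exact (le_sup_left : A' ≤ A' ⊔ P') hy
        obtain ⟨x, hx, rfl⟩ := this
        exact ⟨x, ⟨hx, hy⟩, rfl⟩
    have hPp : IsPGroup p P := hR.to_le hPR
    have hAp : IsPGroup p A := hR.to_le hAR
    subst hPm
    subst hAm
    have hAP : ∀ a ∈ A, ∀ x ∈ P, a * x * a⁻¹ ∈ P := by
      intro a ha x hx
      apply hPc
      · exact mul_mem (mul_mem (hAR ha) (hPR hx)) (inv_mem (hAR ha))
      · rw [map_mul, map_mul, map_inv]
        exact hnorm _ ⟨a, ha, rfl⟩ _ ⟨x, hx, rfl⟩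
    have hAN : A ≤ normalizer (P : Set G) := by
      intro a ha
      rw [mem_normalizer_iff]
      intro x
      refine ⟨hAP a ha x, fun hx => ?_⟩
      have := hAP a⁻¹ (inv_mem ha) _ hx
      simpa [mul_assoc] using this
    have hle1 : P ≤ pPrimePCore p G := by
      unfold pPrimePCore
      rw [← map_le_iff_le_comap]
      exact le_pCore hP'n (hPp.map _)
    have hNP : (pPrimeCore p G ⊔ P).Normal := by
      have : pPrimeCore p G ⊔ P = (P.map (QuotientGroup.mk' (pPrimeCore p G))).comap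
          (QuotientGroup.mk' (pPrimeCore p G)) := by
        rw [comap_map_eq, QuotientGroup.ker_mk', sup_comm]
      rw [this]
      exact hP'n.comap _
    have hq' : ⁅⁅P, A⁆, A⁆ = ⊥ := by
      have h1 : ⁅⁅P, A⁆, A⁆ ≤ pPrimeCore p G := by
        rw [← map_commutator, ← map_commutator, Subgroup.map_eq_bot_iff, QuotientGroup.ker_mk'] at hq
        exact hq
      have h2 : ⁅⁅P, A⁆, A⁆ ≤ R := by
        have h3 : ⁅P, A⁆ ≤ R := (commutator_mono hPR hAR).trans (commutator_le_self R)
        exact (commutator_mono h3 hAR).trans (commutator_le_self R)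
      have h4 := le_inf h1 h2
      rwa [PQuot.inf_eq_bot hN hR, le_bot_iff] at h4
    have h5 := h A P hAp hPp hAP hle1 hNP hq'
    rintro _ ⟨⟨y, hy⟩, hyA, rfl⟩
    have hyA' : y ∈ A.map (QuotientGroup.mk' (pPrimeCore p G)) := hyA
    obtain ⟨a, ha, rfl⟩ := hyA'
    exact (mem_pCore_normMod_iff hN hPp (hAN ha) hy).1 (h5 ⟨⟨a, hAN ha⟩, ha, rfl⟩)
  · rintro ⟨hodd, -, h⟩
    refine ⟨hodd, hO, ?_⟩
    intro A P hA hP hnorm hle hnormal hq
    have hPn' : (P.map (QuotientGroup.mk' (pPrimeCore p G))).Normal := by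
      have h1 : P.map (QuotientGroup.mk' (pPrimeCore p G)) =
          (pPrimeCore p G ⊔ P).map (QuotientGroup.mk' (pPrimeCore p G)) := by
        rw [Subgroup.map_sup]
        have : (pPrimeCore p G).map (QuotientGroup.mk' (pPrimeCore p G)) = ⊥ := by
          rw [Subgroup.map_eq_bot_iff, QuotientGroup.ker_mk']
        rw [this, bot_sup_eq]
      rw [h1]
      exact hnormal.map _ (QuotientGroup.mk'_surjective _)
    have h1 := h (A.map (QuotientGroup.mk' (pPrimeCore p G)))
      (P.map (QuotientGroup.mk' (pPrimeCore p G))) (hA.map _) (hP.map _) (by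
        rintro _ ⟨a, ha, rfl⟩ _ ⟨x, hx, rfl⟩
        exact ⟨a * x * a⁻¹, hnorm a ha x hx, by simp⟩) (by
        unfold pPrimePCore
        rw [← map_le_iff_le_comap]
        apply le_pCore
        · exact hPn'.map _ (QuotientGroup.mk'_surjective _)
        · exact (hP.map _).map _) (by rw [hcore, bot_sup_eq]; exact hPn') (by
        rw [← map_commutator, ← map_commutator, hq, Subgroup.map_bot])
    have hAN : A ≤ normalizer (P : Set G) := by
      intro a ha
      rw [mem_normalizer_iff]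
      intro x
      refine ⟨hnorm a ha x, fun hx => ?_⟩
      have := hnorm a⁻¹ (inv_mem ha) _ hx
      simpa [mul_assoc] using this
    rintro _ ⟨⟨a, ha⟩, haA, rfl⟩
    have haA' : a ∈ A := haA
    have ha' := mk_mem_normalizer_of_mem (N := pPrimeCore p G) ha
    exact (mem_pCore_normMod_iff hN hP ha ha').2 (h1 ⟨⟨_, ha'⟩, ⟨a, haA', rfl⟩, rfl⟩)

end Cfsg.Agent.H36.PStab
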