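import Mathlib
import Cfsg.Prelude.Def_PLocal
import Cfsg.Prelude.Def_Local
import Cfsg.Agent.H36.ActStab
import Cfsg.Agent.H36.PStab
import Cfsg.Agent.Cop.Basic
set_option autoImplicit false
set_option linter.all false

/-!
Groups without section `SL(2, p)` are `p`-stable modulo `O_{p'}`.
-/

namespace Cfsg.Agent.H36.PStabSec
open Subgroup Cfsg Cfsg.Agent.H36.QuadSL2
open scoped commutatorElement

variable {G : Type*} [Group G] [Finite G] {p : ℕ} [hp : Fact p.Prime]

/-- An element acting trivially on `P / Φ(P)` has a `p`-power acting trivially on `P`. -/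
theorem pow_mem_centralizer {P : Subgroup G} (hP : IsPGroup p P)
    [hN : ((frattini ↥P).map P.subtype).Normal] (hPn : P.Normal) {s : G}
    (hs : s ∈ sectionKernel P ((frattini ↥P).map P.subtype)) :
    ∃ k : ℕ, s ^ p ^ k ∈ centralizer (P : Set G) := by
  obtain ⟨k, m, hm, hk⟩ := Nat.exists_eq_pow_mul_and_not_dvd (orderOf_pos s).ne' p hp.out.ne_one
  refine ⟨k, ?_⟩
  have hsk : s ^ p ^ k ∈ sectionKernel P ((frattini ↥P).map P.subtype) := pow_mem hs _
  have hord : orderOf (s ^ p ^ k) = m := by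
    rw [orderOf_pow' _ (pow_ne_zero _ hp.out.ne_zero), hk, Nat.gcd_eq_right (dvd_mul_right _ _),
      Nat.mul_div_cancel_left _ (pow_pos hp.out.pos _)]
  have hcop : (orderOf (s ^ p ^ k)).Coprime p := by
    rw [hord, Nat.coprime_comm, Nat.Prime.coprime_iff_not_dvd hp.out]; exact hm
  generalize s ^ p ^ k = c at hsk hcop
  have h1 : zpowers c ≤ centralizer (P : Set G) := by
    apply Cop.le_centralizer_of_frattini
    · rw [normalizer_eq_top_iff.2 hPn]; exact le_top
    · rw [Nat.card_zpowers]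
      obtain ⟨n, hn⟩ := IsPGroup.iff_card.1 (hP.to_subgroup (frattini ↥P))
      rw [hn]
      exact Nat.Coprime.pow_right _ hcop
    · intro a ha k hk
      have ha' : a ∈ sectionKernel P ((frattini ↥P).map P.subtype) := (zpowers_le.2 hsk) ha
      have h2 : QuotientGroup.mk' ((frattini ↥P).map P.subtype) a ∈
        centralizer ((P.map (QuotientGroup.mk'
          ((frattini ↥P).map P.subtype)) : Subgroup _) : Set _) := ha'
      have h3 := mem_centralizer_iff.1 h2 _ ⟨k, hk, rfl⟩
      rw [← QuotientGroup.eq_one_iff]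
      have : QuotientGroup.mk' ((frattini ↥P).map P.subtype)
          (a * k * a⁻¹ * k⁻¹) = 1 := by
        rw [map_mul, map_mul, map_mul, ← h3, map_inv, map_inv]
        group
      exact this
  exact h1 (mem_zpowers c)

/-- In a group without section `SL(2, p)`, `p` odd, elements acting quadratically on a normal
`p`-subgroup `P` have image in `O_p(G / C_G(P))`. -/
theorem mem_pCore_of_quad (hp2 : p ≠ 2) (hG : ¬ HasSL2Section p G) (P : Subgroup G) [hPn : P.Normal]
    (hP : IsPGroup p P) {a : G}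
    (ha : ⁅⁅P, zpowers a⁆, zpowers a⁆ ≤ (frattini ↥P).map P.subtype) :
    (QuotientGroup.mk a : G ⧸ centralizer (P : Set G)) ∈ pCore p (G ⧸ centralizer (P : Set G)) := by
  have hN : ((frattini ↥P).map P.subtype).Normal := inferInstance
  obtain ⟨D, hDn, hSD, ⟨k, hk⟩, haD⟩ := ActStab.isPStableOnSection hp2 hG P _
    (ActStab.map_frattini_elementary hP) a ha
  have hSn : (sectionKernel P ((frattini ↥P).map P.subtype)).Normal := by
    have : (P.map (QuotientGroup.mk' ((frattini ↥P).map P.subtype))).Normal :=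
      hPn.map _ (QuotientGroup.mk'_surjective _)
    unfold sectionKernel
    infer_instance
  have hDp : IsPGroup p (D.map (QuotientGroup.mk' (centralizer (P : Set G)))) := by
    rintro ⟨_, d, hd, rfl⟩
    have hn : ((sectionKernel P ((frattini ↥P).map P.subtype)).subgroupOf D).Normal := inferInstance
    have h1 : (⟨d, hd⟩ : D) ^ (p ^ k) ∈ (sectionKernel P ((frattini ↥P).map P.subtype)).subgroupOf D := by
      rw [← hk]; exact pow_index_mem _ _
    have h2 : d ^ (p ^ k) ∈ sectionKernel P ((frattini ↥P).map P.subtype) := h1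
    obtain ⟨l, hl⟩ := pow_mem_centralizer hP hPn h2
    refine ⟨k + l, ?_⟩
    apply Subtype.ext
    show (QuotientGroup.mk' (centralizer (P : Set G)) d) ^ p ^ (k + l) = 1
    rw [← map_pow, pow_add, pow_mul]
    exact (QuotientGroup.eq_one_iff _).2 hl
  exact Solv.le_pCore (hDn.map _ (QuotientGroup.mk'_surjective _)) hDp ⟨a, haD, rfl⟩

theorem isPStable_quotient (hp2 : p ≠ 2) (hG : ¬ HasSL2Section p G)
    (hO : pPrimeCore p G < pPrimePCore p G) : IsPStable p (G ⧸ pPrimeCore p G) := by
  have hcore : pPrimeCore p (G ⧸ pPrimeCore p G) = ⊥ := Solv.pPrimeCore_quotient_pPrimeCore p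
  have hG' : ¬ HasSL2Section p (G ⧸ pPrimeCore p G) := fun h => hG (h.of_quotient _)
  refine ⟨hp.out.odd_of_ne_two hp2, ?_, ?_⟩
  · intro h
    unfold pPrimePCore at hO
    rw [h, MonoidHom.comap_bot, QuotientGroup.ker_mk'] at hO
    exact lt_irrefl _ hO
  · intro A P hA hP hAP hle hn hq
    rw [hcore, bot_sup_eq] at hn
    have hnt : normalizer (P : Set (G ⧸ pPrimeCore p G)) = ⊤ := normalizer_eq_top_iff.2 hn
    rintro _ ⟨⟨a, ha⟩, haA, rfl⟩
    have haA' : a ∈ A := haA
    have h1 : (QuotientGroup.mk a : (G ⧸ pPrimeCore p G) ⧸ centralizer (P : Set (G ⧸ pPrimeCore p G))) ∈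
        pCore p ((G ⧸ pPrimeCore p G) ⧸ centralizer (P : Set (G ⧸ pPrimeCore p G))) := by
      apply mem_pCore_of_quad hp2 hG' P hP
      have h2 : ⁅⁅P, zpowers a⁆, zpowers a⁆ ≤ ⊥ := by
        rw [← hq]
        exact commutator_mono (commutator_mono le_rfl (zpowers_le.2 haA')) (zpowers_le.2 haA')
      exact h2.trans bot_le
    refine (PStab.mem_pCore_of_surj (p := p) ((QuotientGroup.mk' (centralizer (P : Set (G ⧸ pPrimeCore p G)))).comp
      (normalizer (P : Set (G ⧸ pPrimeCore p G))).subtype) ?_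
      ((centralizer (P : Set (G ⧸ pPrimeCore p G))).subgroupOf (normalizer (P : Set (G ⧸ pPrimeCore p G)))) ?_
      ⟨a, ha⟩).2 h1
    · intro y
      obtain ⟨x, rfl⟩ := QuotientGroup.mk'_surjective _ y
      exact ⟨⟨x, by rw [hnt]; trivial⟩, rfl⟩
    · ext x
      rw [MonoidHom.mem_ker, mem_subgroupOf]
      exact QuotientGroup.eq_one_iff _

end Cfsg.Agent.H36.PStabSec
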